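import Groth.Agent.CurveEmbed.P1
import Groth.Agent.CurveCohLib.Rank
import Groth.Agent.H23.TrivBasic
import Groth.Agent.OmegaLib.IdealMod
import Groth.Agent.S8914

/-! The conormal bundle of a principal ideal is trivial; `O(1)` on the projective line is not. -/

set_option autoImplicit false
set_option linter.style.haveILetI false
set_option backward.isDefEq.respectTransparency false
set_option backward.isDefEq.respectTransparency.types false

universe u

open CategoryTheory CategoryTheory.Limits AlgebraicGeometry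

namespace Groth.Agent.SmoothMinimal

open Groth.Agent

variable {X : Scheme.{u}}

/-- An invertible ideal sheaf generated by a global function is trivial. -/
theorem triv_idealMod (I : X.IdealSheafData) (hI : BlowUp.IsEffCartierIdeal I) (t : Γ(X, ⊤))
    (ht : ∀ U : X.affineOpens, I.ideal U = Ideal.span {X.presheaf.map (homOfLE le_top).op t}) :
    H23.TrivBasic.Triv (ClSub.idealMod I) := by
  have hinv : PicF.IsInvertible (ClSub.idealMod I) := (S8914.result I).2 hI
  have hker : I.subschemeι.app ⊤ t = 0 := by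
    refine I.subscheme.IsSheaf.section_ext fun z hz => ?_
    obtain ⟨W, hW, hzW, -⟩ := exists_isAffineOpen_mem_and_subset (x := I.subschemeι z) (U := ⊤) trivial
    refine ⟨I.subschemeι ⁻¹ᵁ W, le_top, hzW, ?_⟩
    have h : X.presheaf.map (homOfLE le_top).op t ∈ I.ideal ⟨W, hW⟩ := by
      rw [ht]; exact Ideal.mem_span_singleton_self _
    rw [← I.ker_subschemeι_app, RingHom.mem_ker, ← CommRingCat.comp_apply, I.subschemeι.naturality] at h
    rw [map_zero]
    exact h
  obtain ⟨e, he⟩ := OmegaLib.exists_idealSect_eq I ⊤ t hker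
  refine H23.TrivBasic.triv_of_frame (e := e) (InvX.isFrame_of_germ fun x hx => ?_)
  obtain ⟨U, hxU, e', he'⟩ := InvX.exists_frame hinv x
  obtain ⟨V, hV, hxV, hVU⟩ := exists_isAffineOpen_mem_and_subset hxU
  have heV := he'.res (h := hVU)
  let g := AModX.res _ hVU e'
  let eV := AModX.res _ (le_top : V ≤ ⊤) e
  obtain ⟨r, hr⟩ := heV.exists_coord le_rfl eV
  rw [AModX.res_self] at hr
  have hmem := OmegaLib.idealSect_mem I ⟨V, hV⟩ g
  rw [ht, Ideal.mem_span_singleton'] at hmem
  obtain ⟨d, hd⟩ := hmem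
  have hg : g = d • eV := OmegaLib.idealSect_injective I V (by
    rw [OmegaLib.idealSect_smul, ← hd]
    congr 1
    exact ((OmegaLib.idealSect_map I (le_top : V ≤ ⊤) e).trans (congrArg _ he)).symm)
  have hdr : d * r = 1 := by
    refine heV.coord_unique le_rfl ?_
    rw [AModX.res_self, mul_smul, ← hr, one_smul]
    exact hg.symm
  have hu : IsUnit (X.presheaf.germ V x hxV r) := (IsUnit.of_mul_eq_one_right d hdr).map (X.presheaf.germ V x hxV).hom
  have hgerm : (ClSub.idealMod I).presheaf.germ ⊤ x hx e =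
      X.presheaf.germ V x hxV r • (ClSub.idealMod I).presheaf.germ V x hxV g := by
    rw [← InvX.germ_res' (le_top : V ≤ ⊤) hxV e, ← QCoh.germ_smul']
    exact congrArg _ hr
  have hb := heV.germ_bijective hxV
  rw [hgerm]
  simp only [← mul_smul]
  refine hb.comp ?_
  rw [← hu.unit_spec]
  exact Units.mulRight_bijective _

/-- `O(1)` on the projective line is not trivial. -/
theorem not_triv_twist_one (k : Type u) [Field k] [IsIntegral (CohB1.ProjSpace 1 k)] :
    ¬ H23.TrivBasic.Triv (Twist.twistProjSpace 1 k 1) := by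
  rintro ⟨φ⟩
  haveI : IsProper (CohB1.ProjSpace.toSpec 1 k) := PnCoh.Chow.isProper_toSpec 1 k
  haveI : IsProper (CohB1.ProjSpace 1 k ↘ Spec (CommRingCat.of k)) := inferInstanceAs (IsProper (CohB1.ProjSpace.toSpec 1 k))
  obtain ⟨ψ₁⟩ := S0843.result k 1 1
  obtain ⟨ψ₂⟩ := S0843.result k 1 2
  have h1 : Module.finrank k (Coh.HH (CohB1.ProjSpace 1 k) (Twist.twistProjSpace 1 k ((1 : ℕ) : ℤ)) 0) = 2 := by
    rw [ψ₁.finrank_eq, CurveEmbed.finrank_binary]
  have h2 : Module.finrank k (Coh.HH (CohB1.ProjSpace 1 k) (Twist.twistProjSpace 1 k ((2 : ℕ) : ℤ)) 0) = 3 := by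
    rw [ψ₂.finrank_eq, CurveEmbed.finrank_binary]
  have hO := (CurveCohLib.hhEquiv (k := k) φ 0).finrank_eq
  rw [show ((1 : ℕ) : ℤ) = 1 from rfl] at h1
  rw [h1] at hO
  have hdvd := CurveEmbed.h0_structure_dvd k (Twist.twistProjSpace 1 k ((2 : ℕ) : ℤ))
  rw [h2, ← hO] at hdvd
  omega

end Groth.Agent.SmoothMinimal
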